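import Mathlib

/-!
# Graded algebras of finite type over the degree zero part
-/

set_option autoImplicit false
set_option linter.style.haveILetI false
set_option linter.unusedVariables false
universe u v

namespace Groth.Agent.GrFinGen

variable {R : Type v} {A : Type u} [CommRing R] [CommRing A] [Algebra R A] (𝒜 : ℕ → Submodule R A) [GradedAlgebra 𝒜]

theorem exists_gens [Algebra.FiniteType (𝒜 0) A] :
    ∃ (E : Finset A) (deg : A → ℕ), (∀ e ∈ E, 0 < deg e ∧ e ∈ 𝒜 (deg e)) ∧
      Algebra.adjoin (𝒜 0) (E : Set A) = ⊤ := by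
  classical
  obtain ⟨s, hs, hs'⟩ := GradedAlgebra.exists_finset_adjoin_eq_top_and_homogeneous_ne_zero 𝒜
  choose! deg h1 h2 using hs'
  exact ⟨s, deg, fun e he => ⟨Nat.pos_of_ne_zero (h1 e he), h2 e he⟩, hs⟩

variable {𝒜}
variable {E : Finset A} {deg : A → ℕ}

/-- The monomial with exponents `α`. -/
noncomputable def mon (E : Finset A) (α : A → ℕ) : A := ∏ e ∈ E, e ^ α e

theorem mon_mem (hE : ∀ e ∈ E, 0 < deg e ∧ e ∈ 𝒜 (deg e)) (α : A → ℕ) :
    mon E α ∈ 𝒜 (∑ e ∈ E, α e • deg e) :=
  SetLike.prod_mem_graded _ _ _ fun e he => SetLike.pow_mem_graded _ (hE e he).2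

theorem exists_mon_of_mem_closure {y : A} (hy : y ∈ Submonoid.closure (E : Set A)) :
    ∃ α : A → ℕ, y = mon E α := by
  classical
  induction hy using Submonoid.closure_induction with
  | mem x hx =>
    refine ⟨fun e => if e = x then 1 else 0, ?_⟩
    rw [mon, Finset.prod_eq_single x]
    · simp
    · intro b _ hb; simp [hb]
    · exact fun h => absurd hx h
  | one => exact ⟨fun _ => 0, by simp [mon]⟩
  | mul x y _ _ hx hy =>
    obtain ⟨α, rfl⟩ := hx
    obtain ⟨β, rfl⟩ := hy
    exact ⟨fun e => α e + β e, by simp [mon, pow_add, Finset.prod_mul_distrib]⟩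

/-- The degree `n` part is spanned by multiples of monomials of degree `n`. -/
theorem induction_deg (hE : ∀ e ∈ E, 0 < deg e ∧ e ∈ 𝒜 (deg e))
    (hgen : Algebra.adjoin (𝒜 0) (E : Set A) = ⊤) (n : ℕ) {motive : A → Prop} (h0 : motive 0)
    (hadd : ∀ a b, motive a → motive b → motive (a + b))
    (hmon : ∀ (c : A) (α : A → ℕ), c ∈ 𝒜 0 → ∑ e ∈ E, α e • deg e = n → motive (c * mon E α))
    {x : A} (hx : x ∈ 𝒜 n) : motive x := by
  classical
  have key : ∀ y ∈ Algebra.adjoin (𝒜 0) (E : Set A), motive (DirectSum.decompose 𝒜 y n : A) := by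
    intro y hy
    rw [← Subalgebra.mem_toSubmodule, Algebra.adjoin_eq_span] at hy
    induction hy using Submodule.span_induction with
    | mem z hz =>
      obtain ⟨α, rfl⟩ := exists_mon_of_mem_closure hz
      by_cases hn : ∑ e ∈ E, α e • deg e = n
      · rw [← hn, DirectSum.decompose_of_mem_same 𝒜 (mon_mem hE α)]
        simpa using hmon 1 α (SetLike.one_mem_graded 𝒜) hn
      · rw [DirectSum.decompose_of_mem_ne 𝒜 (mon_mem hE α) hn]
        exact h0
    | zero => simpa using h0
    | add a b _ _ ha hb => simpa using hadd _ _ ha hb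
    | smul c z hz hcz =>
      obtain ⟨c, hc⟩ := c
      clear hcz
      show motive (DirectSum.decompose 𝒜 (c * z) n : A)
      induction hz using Submodule.span_induction generalizing c with
      | mem z hz =>
        obtain ⟨α, rfl⟩ := exists_mon_of_mem_closure hz
        have hmem : c * mon E α ∈ 𝒜 (∑ e ∈ E, α e • deg e) := by
          simpa using SetLike.mul_mem_graded hc (mon_mem hE α)
        by_cases hn : ∑ e ∈ E, α e • deg e = n
        · rw [← hn, DirectSum.decompose_of_mem_same 𝒜 hmem]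
          exact hmon c α hc hn
        · rw [DirectSum.decompose_of_mem_ne 𝒜 hmem hn]
          exact h0
      | zero => simpa using h0
      | add a b _ _ ha hb => simpa [mul_add] using hadd _ _ (ha c hc) (hb c hc)
      | smul r z _ ih =>
        have : c * (r • z) = (c * (r : A)) * z := by
          rw [mul_assoc]; rfl
        rw [this]
        exact ih _ (by simpa using SetLike.mul_mem_graded hc r.2)
  have := key x (by rw [hgen]; trivial)
  rwa [DirectSum.decompose_of_mem_same 𝒜 hx] at this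

/-- A common multiple of the degrees. -/
noncomputable def bigDeg (E : Finset A) (deg : A → ℕ) : ℕ := ∏ e ∈ E, deg e

theorem bigDeg_pos (hE : ∀ e ∈ E, 0 < deg e ∧ e ∈ 𝒜 (deg e)) : 0 < bigDeg E deg :=
  Finset.prod_pos fun e he => (hE e he).1

theorem exists_split (hE : ∀ e ∈ E, 0 < deg e ∧ e ∈ 𝒜 (deg e)) {n : ℕ} (α : A → ℕ)
    (hα : ∑ e ∈ E, α e • deg e = n + bigDeg E deg) (hn : E.card * bigDeg E deg ≤ n) :
    ∃ y ∈ 𝒜 (bigDeg E deg), ∃ β : A → ℕ, ∑ e ∈ E, β e • deg e = n ∧ mon E α = y * mon E β := by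
  classical
  set D := bigDeg E deg
  obtain ⟨e, he, hle⟩ : ∃ e ∈ E, D ≤ α e • deg e := by
    by_contra hcon
    push Not at hcon
    have h1 : ∑ e ∈ E, α e • deg e ≤ E.card * D := by
      have := Finset.sum_le_card_nsmul E (fun e => α e • deg e) D fun e he => (hcon e he).le
      exact this.trans (le_of_eq (smul_eq_mul _ _))
    have hD : 0 < D := bigDeg_pos hE
    omega
  obtain ⟨q, hq⟩ : deg e ∣ D := Finset.dvd_prod_of_mem _ he
  have hqα : q ≤ α e := by
    rw [smul_eq_mul, hq, mul_comm (α e)] at hle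
    exact Nat.le_of_mul_le_mul_left hle (hE e he).1
  refine ⟨e ^ q, ?_, fun x => if x = e then α e - q else α x, ?_, ?_⟩
  · have := SetLike.pow_mem_graded q (hE e he).2
    rwa [smul_eq_mul, mul_comm, ← hq] at this
  · have h1 : ∑ x ∈ E, (if x = e then α e - q else α x) • deg x + q • deg e = ∑ x ∈ E, α x • deg x := by
      rw [← Finset.add_sum_erase E _ he, ← Finset.add_sum_erase E _ he, if_pos rfl]
      have h2 : ∑ x ∈ E.erase e, (if x = e then α e - q else α x) • deg x = ∑ x ∈ E.erase e, α x • deg x :=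
        Finset.sum_congr rfl fun x hx => by rw [if_neg (Finset.ne_of_mem_erase hx)]
      rw [h2, add_right_comm, ← add_smul, Nat.sub_add_cancel hqα]
    have h3 : q • deg e = D := by rw [smul_eq_mul, mul_comm, ← hq]
    beta_reduce
    omega
  · rw [mon, mon, ← Finset.mul_prod_erase E _ he, ← Finset.mul_prod_erase E _ he, if_pos rfl, ← mul_assoc, ← pow_add,
      Nat.add_sub_cancel' hqα]
    congr 1
    exact Finset.prod_congr rfl fun x hx => by rw [if_neg (Finset.ne_of_mem_erase hx)]

theorem deg_add_bigDeg (hE : ∀ e ∈ E, 0 < deg e ∧ e ∈ 𝒜 (deg e))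
    (hgen : Algebra.adjoin (𝒜 0) (E : Set A) = ⊤) {n : ℕ} (hn : E.card * bigDeg E deg ≤ n) :
    𝒜 (n + bigDeg E deg) = 𝒜 (bigDeg E deg) * 𝒜 n := by
  refine le_antisymm (fun x hx => ?_) (Submodule.mul_le.2 fun a ha b hb => by
    rw [add_comm]; exact SetLike.mul_mem_graded ha hb)
  refine induction_deg hE hgen _ (zero_mem _) (fun _ _ ha hb => add_mem ha hb) (fun c α hc hα => ?_) hx
  obtain ⟨y, hy, β, hβ, e⟩ := exists_split hE α hα hn
  rw [e, mul_left_comm]
  refine Submodule.mul_mem_mul hy ?_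
  rw [← hβ]
  simpa using SetLike.mul_mem_graded hc (mon_mem hE β)

theorem deg_add_mul_bigDeg (hE : ∀ e ∈ E, 0 < deg e ∧ e ∈ 𝒜 (deg e))
    (hgen : Algebra.adjoin (𝒜 0) (E : Set A) = ⊤) {n : ℕ} (hn : E.card * bigDeg E deg ≤ n) (j : ℕ) :
    𝒜 (n + j * bigDeg E deg) = 𝒜 (bigDeg E deg) ^ j * 𝒜 n := by
  induction j with
  | zero => simp
  | succ j ih =>
    rw [Nat.succ_mul, ← add_assoc, deg_add_bigDeg hE hgen (le_trans hn (Nat.le_add_right _ _)), ih,
      pow_succ', mul_assoc]

theorem pow_le_deg (D j : ℕ) : 𝒜 D ^ j ≤ 𝒜 (j * D) := by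
  induction j with
  | zero =>
    rw [pow_zero, zero_mul, Submodule.one_eq_span, Submodule.span_le, Set.singleton_subset_iff]
    exact SetLike.one_mem_graded 𝒜
  | succ j ih =>
    rw [pow_succ, Nat.succ_mul]
    exact (mul_le_mul' ih le_rfl).trans (Submodule.mul_le.2 fun a ha b hb => SetLike.mul_mem_graded ha hb)

end Groth.Agent.GrFinGen
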